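import Groth.Agent.LCILocusLib.Chart
import Groth.Agent.KoszAtLib.Mor
import Mathlib

/-!
# The Koszul locus of a morphism between flat schemes over a base
-/

set_option autoImplicit false
set_option linter.style.haveILetI false
set_option backward.isDefEq.respectTransparency.types false

noncomputable section

universe u

open CategoryTheory CategoryTheory.Limits AlgebraicGeometry

namespace LCILocusLib

/-- Some affine neighbourhood of `x` maps into an affine open by a lci ring map. -/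
def Koz {X Y : Scheme.{u}} (f : X ⟶ Y) (x : X) : Prop :=
  ∃ (U : X.Opens) (V : Y.Opens) (_ : IsAffineOpen U) (_ : IsAffineOpen V) (hUV : U ≤ f ⁻¹ᵁ V), x ∈ U ∧
    letI := (f.appLE V U hUV).hom.toAlgebra
    LCI.IsLCI Γ(Y, V) Γ(X, U)

theorem isOpen_koz {X Y : Scheme.{u}} (f : X ⟶ Y) : IsOpen {x | Koz f x} := by
  refine isOpen_iff_forall_mem_open.2 fun x hx => ?_
  obtain ⟨U, V, hU, hV, e, hxU, h⟩ := hx
  exact ⟨U, fun z hz => ⟨U, V, hU, hV, e, hz, h⟩, U.2, hxU⟩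

theorem koz_iff_chart {X Y : Scheme.{u}} (f : X ⟶ Y) {W : Y.Opens} (hW : IsAffineOpen W) {U : X.Opens}
    (hU : IsAffineOpen U) (e : U ≤ f ⁻¹ᵁ W) (x : X) (hx : x ∈ U) :
    letI := (f.appLE W U e).hom.toAlgebra
    Koz f x ↔ ∃ b, b ∉ (hU.primeIdealOf ⟨x, hx⟩).asIdeal ∧ LCI.IsLCI Γ(Y, W) (Localization.Away b) := by
  letI := (f.appLE W U e).hom.toAlgebra
  have key : ∀ b : Γ(X, U), b ∉ (hU.primeIdealOf ⟨x, hx⟩).asIdeal ↔ x ∈ X.basicOpen b := fun b => by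
    have h := hU.fromSpec_primeIdealOf ⟨x, hx⟩
    conv_rhs => rw [← show hU.fromSpec (hU.primeIdealOf ⟨x, hx⟩) = x from h]
    rw [← Scheme.Hom.mem_preimage, hU.fromSpec_preimage_basicOpen]
    exact (PrimeSpectrum.mem_basicOpen _ _).symm
  have hiff : ∀ b : Γ(X, U), LCI.IsLCI Γ(Y, W) (Localization.Away b) ↔
      KoszAtLib.LCIHom (f.appLE W (X.basicOpen b) ((X.basicOpen_le b).trans e)).hom := fun b => by
    haveI := hU.isLocalization_basicOpen b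
    let ε := IsLocalization.algEquiv (Submonoid.powers b) (Localization.Away b) Γ(X, X.basicOpen b)
    letI := (f.appLE W (X.basicOpen b) ((X.basicOpen_le b).trans e)).hom.toAlgebra
    have hε : ∀ a : Γ(Y, W), ε (algebraMap Γ(Y, W) (Localization.Away b) a) =
        algebraMap Γ(Y, W) Γ(X, X.basicOpen b) a := fun a => by
      show ε (algebraMap Γ(Y, W) (Localization.Away b) a) = (f.appLE W (X.basicOpen b) _).hom a
      rw [IsScalarTower.algebraMap_apply Γ(Y, W) Γ(X, U) (Localization.Away b), ε.commutes,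
        ← Scheme.Hom.appLE_map f e (homOfLE (X.basicOpen_le b)).op]
      rfl
    let E : Localization.Away b ≃ₐ[Γ(Y, W)] Γ(X, X.basicOpen b) := AlgEquiv.ofRingEquiv (f := ε.toRingEquiv) hε
    exact ⟨fun h => KRLib.isLCI_of_algEquiv E h, fun h => KRLib.isLCI_of_algEquiv E.symm h⟩
  constructor
  · rintro ⟨U₀, V₀, hU₀, hV₀, e₀, hx₀, hl⟩
    obtain ⟨b, hb, hxb⟩ := hU.exists_basicOpen_le (V := U₀) ⟨x, hx₀⟩ hx
    refine ⟨b, (key b).2 hxb, (hiff b).2 ?_⟩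
    have hiso : ∀ D : X.Opens, D ≤ U₀ → IsIso (U₀.ι.appLE D (U₀.ι ⁻¹ᵁ D) le_rfl) := fun D hD => by
      rw [← Scheme.Hom.app_eq_appLE]
      refine U₀.ι.isIso_app D ?_
      rwa [Scheme.Opens.opensRange_ι]
    have hmor : KoszAtLib.LCIMor (U₀.ι ≫ f) := by
      rw [HasRingHomProperty.iff_exists_appLE (P := KoszAtLib.LCIMor) KoszAtLib.lciHom_stableUnderCompositionSource]
      intro z
      refine ⟨⟨V₀, hV₀⟩, ⟨U₀.ι ⁻¹ᵁ U₀, by
        rw [Scheme.Opens.ι_preimage_self]; haveI : IsAffine _ := hU₀; exact isAffineOpen_top _⟩, z.2,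
        by rw [Scheme.Hom.comp_preimage]; exact U₀.ι.preimage_mono e₀, ?_⟩
      rw [← Scheme.Hom.appLE_comp_appLE U₀.ι f V₀ U₀ (U₀.ι ⁻¹ᵁ U₀) e₀ le_rfl, CommRingCat.hom_comp]
      haveI := hiso U₀ le_rfl
      exact KoszAtLib.lciHom_isLocal.respectsIso.1 _
        (asIso (U₀.ι.appLE U₀ (U₀.ι ⁻¹ᵁ U₀) le_rfl)).commRingCatIsoToRingEquiv hl
    have hD : IsAffineOpen (U₀.ι ⁻¹ᵁ X.basicOpen b) :=
      (hU.basicOpen b).preimage_of_isOpenImmersion U₀.ι (by rwa [Scheme.Opens.opensRange_ι])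
    have hle : U₀.ι ⁻¹ᵁ X.basicOpen b ≤ (U₀.ι ≫ f) ⁻¹ᵁ W := by
      rw [Scheme.Hom.comp_preimage]; exact U₀.ι.preimage_mono ((X.basicOpen_le b).trans e)
    have h := HasRingHomProperty.appLE (P := KoszAtLib.LCIMor) (U₀.ι ≫ f) hmor ⟨W, hW⟩ ⟨_, hD⟩ hle
    rw [← Scheme.Hom.appLE_comp_appLE U₀.ι f W (X.basicOpen b) (U₀.ι ⁻¹ᵁ X.basicOpen b)
      ((X.basicOpen_le b).trans e) le_rfl, CommRingCat.hom_comp] at h
    haveI := hiso (X.basicOpen b) hb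
    have h2 := KoszAtLib.lciHom_isLocal.respectsIso.1 _
      (asIso (U₀.ι.appLE (X.basicOpen b) (U₀.ι ⁻¹ᵁ X.basicOpen b) le_rfl)).commRingCatIsoToRingEquiv.symm h
    convert h2 using 1
    exact RingHom.ext fun a => ((asIso (U₀.ι.appLE (X.basicOpen b) (U₀.ι ⁻¹ᵁ X.basicOpen b)
      le_rfl)).commRingCatIsoToRingEquiv.symm_apply_apply _).symm
  · rintro ⟨b, hb, hl⟩
    exact ⟨X.basicOpen b, W, hU.basicOpen b, hW, (X.basicOpen_le b).trans e, (key b).1 hb, (hiff b).1 hl⟩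

theorem pullback_chart {X S X' S' : Scheme.{u}} {q : X ⟶ S} {h : S' ⟶ S} {gX : X' ⟶ X} {q' : X' ⟶ S'}
    (hX : IsPullback gX q' q h) {T : S.Opens} (hT : IsAffineOpen T) {T' : S'.Opens} (hT' : IsAffineOpen T')
    (eT : T' ≤ h ⁻¹ᵁ T) {U : X.Opens} (hU : IsAffineOpen U) (e : U ≤ q ⁻¹ᵁ T) :
    IsAffineOpen (gX ⁻¹ᵁ U ⊓ q' ⁻¹ᵁ T') ∧
      IsPushout (q.appLE T U e) (h.appLE T T' eT)
        (gX.appLE U (gX ⁻¹ᵁ U ⊓ q' ⁻¹ᵁ T') inf_le_left) (q'.appLE T' (gX ⁻¹ᵁ U ⊓ q' ⁻¹ᵁ T') inf_le_right) := by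
  constructor
  · have : IsAffine _ := hT
    have : IsAffine _ := hT'
    have : IsAffine _ := hU
    exact .of_isIso (Scheme.Hom.isPullback_resLE hX eT e rfl).isoPullback.hom
  · exact (isIso_pushoutSection_iff hX eT e rfl).mp (isIso_pushoutSection_of_isAffineOpen hX eT e rfl hT hT' hU)

theorem koz_baseChange_iff {X Y S X' Y' S' : Scheme.{u}} (f : X ⟶ Y) (g : Y ⟶ S)
    [Flat (f ≫ g)] [LocallyOfFinitePresentation (f ≫ g)] [Flat g] [LocallyOfFinitePresentation g]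
    (h : S' ⟶ S) (gY : Y' ⟶ Y) (g' : Y' ⟶ S') (hY : IsPullback gY g' g h)
    (gX : X' ⟶ X) (f' : X' ⟶ Y') (hX : IsPullback gX (f' ≫ g') (f ≫ g) h) (w : gX ≫ f = f' ≫ gY) (x' : X') :
    Koz f' x' ↔ Koz f (gX x') := by
  haveI : Flat g' := MorphismProperty.of_isPullback hY ‹Flat g›
  haveI : LocallyOfFinitePresentation g' := MorphismProperty.of_isPullback hY ‹LocallyOfFinitePresentation g›
  haveI : Flat (f' ≫ g') := MorphismProperty.of_isPullback hX ‹Flat (f ≫ g)›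
  haveI : LocallyOfFinitePresentation (f' ≫ g') :=
    MorphismProperty.of_isPullback hX ‹LocallyOfFinitePresentation (f ≫ g)›
  obtain ⟨T, hT, hxT, -⟩ := exists_isAffineOpen_mem_and_subset (x := g (f (gX x'))) (U := ⊤) trivial
  have hsT : h (g' (f' x')) ∈ T := by
    have := congrArg (fun φ : X' ⟶ S => φ x') hX.w
    simp only [Scheme.Hom.comp_apply] at this
    rwa [← this]
  obtain ⟨W, hW, hxW, hWT⟩ := exists_isAffineOpen_mem_and_subset (x := f (gX x')) (U := g ⁻¹ᵁ T) hxT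
  obtain ⟨U, hU, hxU, hUW⟩ := exists_isAffineOpen_mem_and_subset (x := gX x') (U := f ⁻¹ᵁ W) hxW
  obtain ⟨T', hT', hxT', eT⟩ := exists_isAffineOpen_mem_and_subset (x := g' (f' x')) (U := h ⁻¹ᵁ T) hsT
  have hWT' : W ≤ g ⁻¹ᵁ T := hWT
  have hUW' : U ≤ f ⁻¹ᵁ W := hUW
  have eT' : T' ≤ h ⁻¹ᵁ T := eT
  have hUT : U ≤ (f ≫ g) ⁻¹ᵁ T := (hUW'.trans (f.preimage_mono hWT')).trans_eq (Scheme.Hom.comp_preimage f g T).symm
  let W' := gY ⁻¹ᵁ W ⊓ g' ⁻¹ᵁ T'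
  let U' := gX ⁻¹ᵁ U ⊓ (f' ≫ g') ⁻¹ᵁ T'
  obtain ⟨hW', hpW⟩ := pullback_chart hY hT hT' eT' hW hWT'
  obtain ⟨hU', hpU⟩ := pullback_chart hX hT hT' eT' hU hUT
  have hU'W' : U' ≤ f' ⁻¹ᵁ W' := fun z hz => by
    refine ⟨?_, hz.2⟩
    show gY (f' z) ∈ W
    rw [← Scheme.Hom.comp_apply, ← w]
    exact hUW' hz.1
  have hxU' : x' ∈ U' := ⟨hxU, hxT'⟩
  letI : Algebra Γ(Y, W) Γ(X, U) := (f.appLE W U hUW').hom.toAlgebra
  letI : Algebra Γ(Y', W') Γ(X', U') := (f'.appLE W' U' hU'W').hom.toAlgebra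
  rw [koz_iff_chart f' hW' hU' hU'W' x' hxU', koz_iff_chart f hW hU hUW' (gX x') hxU]
  letI : Algebra Γ(S, T) Γ(S', T') := (h.appLE T T' eT').hom.toAlgebra
  letI : Algebra Γ(S, T) Γ(Y, W) := (g.appLE T W hWT').hom.toAlgebra
  letI : Algebra Γ(S, T) Γ(X, U) := ((f ≫ g).appLE T U hUT).hom.toAlgebra
  letI : Algebra Γ(S', T') Γ(Y', W') := (g'.appLE T' W' inf_le_right).hom.toAlgebra
  letI : Algebra Γ(S', T') Γ(X', U') := ((f' ≫ g').appLE T' U' inf_le_right).hom.toAlgebra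
  letI : Algebra Γ(Y, W) Γ(Y', W') := (gY.appLE W W' inf_le_left).hom.toAlgebra
  letI : Algebra Γ(X, U) Γ(X', U') := (gX.appLE U U' inf_le_left).hom.toAlgebra
  letI : Algebra Γ(S, T) Γ(Y', W') := ((g.appLE T W hWT') ≫ gY.appLE W W' inf_le_left).hom.toAlgebra
  letI : Algebra Γ(S, T) Γ(X', U') := (((f ≫ g).appLE T U hUT) ≫ gX.appLE U U' inf_le_left).hom.toAlgebra
  haveI : IsScalarTower Γ(S, T) Γ(Y, W) Γ(Y', W') := IsScalarTower.of_algebraMap_eq fun _ => rfl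
  haveI : IsScalarTower Γ(S, T) Γ(X, U) Γ(X', U') := IsScalarTower.of_algebraMap_eq fun _ => rfl
  haveI : IsScalarTower Γ(S, T) Γ(S', T') Γ(Y', W') :=
    IsScalarTower.of_algebraMap_eq' (congrArg CommRingCat.Hom.hom hpW.w)
  haveI : IsScalarTower Γ(S, T) Γ(S', T') Γ(X', U') :=
    IsScalarTower.of_algebraMap_eq' (congrArg CommRingCat.Hom.hom hpU.w)
  haveI : IsScalarTower Γ(S, T) Γ(Y, W) Γ(X, U) := IsScalarTower.of_algebraMap_eq fun a =>
    (congrArg (fun φ : Γ(S, T) ⟶ Γ(X, U) => φ.hom a) (Scheme.Hom.appLE_comp_appLE f g T W U hWT' hUW') : _).symm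
  haveI : IsScalarTower Γ(S', T') Γ(Y', W') Γ(X', U') := IsScalarTower.of_algebraMap_eq fun a =>
    (congrArg (fun φ : Γ(S', T') ⟶ Γ(X', U') => φ.hom a)
      (Scheme.Hom.appLE_comp_appLE f' g' T' W' U' inf_le_right hU'W') : _).symm
  haveI : Algebra.IsPushout Γ(S, T) Γ(Y, W) Γ(S', T') Γ(Y', W') := CommRingCat.isPushout_iff_isPushout.mp hpW
  haveI : Algebra.IsPushout Γ(S, T) Γ(X, U) Γ(S', T') Γ(X', U') := CommRingCat.isPushout_iff_isPushout.mp hpU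
  haveI : Algebra.IsPushout Γ(S, T) Γ(S', T') Γ(Y, W) Γ(Y', W') := .symm inferInstance
  haveI : Algebra.IsPushout Γ(S, T) Γ(S', T') Γ(X, U) Γ(X', U') := .symm inferInstance
  haveI : Module.Flat Γ(S, T) Γ(Y, W) := g.flat_appLE hT hW hWT'
  haveI : Algebra.FinitePresentation Γ(S, T) Γ(Y, W) := g.finitePresentation_appLE hT hW hWT'
  haveI : Module.Flat Γ(S, T) Γ(X, U) := (f ≫ g).flat_appLE hT hU hUT
  haveI : Algebra.FinitePresentation Γ(S, T) Γ(X, U) := (f ≫ g).finitePresentation_appLE hT hU hUT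
  haveI : Module.Flat Γ(S', T') Γ(Y', W') := g'.flat_appLE hT' hW' inf_le_right
  haveI : Algebra.FinitePresentation Γ(S', T') Γ(Y', W') := g'.finitePresentation_appLE hT' hW' inf_le_right
  haveI : Module.Flat Γ(S', T') Γ(X', U') := (f' ≫ g').flat_appLE hT' hU' inf_le_right
  haveI : Algebra.FinitePresentation Γ(S', T') Γ(X', U') := (f' ≫ g').finitePresentation_appLE hT' hU' inf_le_right
  have hcomm : ∀ c : Γ(Y, W), algebraMap Γ(X, U) Γ(X', U') (algebraMap Γ(Y, W) Γ(X, U) c) =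
      algebraMap Γ(Y', W') Γ(X', U') (algebraMap Γ(Y, W) Γ(Y', W') c) := fun c => by
    show (f.appLE W U hUW' ≫ gX.appLE U U' inf_le_left).hom c = (gY.appLE W W' inf_le_left ≫ f'.appLE W' U' hU'W').hom c
    rw [Scheme.Hom.appLE_comp_appLE, Scheme.Hom.appLE_comp_appLE]
    simp only [w]
  have hq : (hU'.primeIdealOf ⟨x', hxU'⟩).asIdeal.comap (algebraMap Γ(X, U) Γ(X', U')) =
      (hU.primeIdealOf ⟨gX x', hxU⟩).asIdeal :=
    congrArg PrimeSpectrum.asIdeal (IsAffineOpen.comap_primeIdealOf_appLE (f := gX) U hU U' hU' inf_le_left hxU')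
  rw [exists_isLCI_away_baseChange (R := Γ(S, T)) (R' := Γ(S', T')) (C := Γ(Y, W)) (C' := Γ(Y', W')) hcomm
    (hU'.primeIdealOf ⟨x', hxU'⟩).asIdeal, hq]

end LCILocusLib
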