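import Groth.Agent.LCILocusLib.Fibre
import Mathlib

/-!
# Koszul regularity on the fibres and base change
-/

set_option autoImplicit false
set_option linter.style.haveILetI false
set_option backward.isDefEq.respectTransparency.types false

noncomputable section

universe u

open KoszDetLib KRLib IsLocalRing TensorProduct

namespace LCILocusLib

attribute [local instance] Algebra.TensorProduct.rightAlgebra

theorem exists_flat_map {R R' κ κ' P P' F F' : Type u} [CommRing R] [CommRing R'] [CommRing κ] [CommRing κ']
    [CommRing P] [CommRing P'] [CommRing F] [CommRing F'] [Algebra R R'] [Algebra R P] [Algebra R P'] [Algebra R' P']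
    [Algebra P P'] [IsScalarTower R R' P'] [IsScalarTower R P P'] [Algebra.IsPushout R R' P P'] [Algebra R κ]
    [Algebra R' κ'] [Algebra κ κ'] [Module.Flat κ κ'] [Algebra R F] [Algebra κ F] [Algebra P F] [IsScalarTower R κ F]
    [IsScalarTower R P F] [Algebra.IsPushout R κ P F] [Algebra R' F'] [Algebra κ' F'] [Algebra P' F']
    [IsScalarTower R' κ' F'] [IsScalarTower R' P' F'] [Algebra.IsPushout R' κ' P' F']
    (hcomp : ∀ r : R, algebraMap κ κ' (algebraMap R κ r) = algebraMap R' κ' (algebraMap R R' r)) :
    ∃ Φ : F →+* F', Φ.Flat ∧ ∀ x : P, Φ (algebraMap P F x) = algebraMap P' F' (algebraMap P P' x) := by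
  letI : Algebra R κ' := ((algebraMap R' κ').comp (algebraMap R R')).toAlgebra
  haveI : IsScalarTower R R' κ' := IsScalarTower.of_algebraMap_eq fun _ => rfl
  haveI : IsScalarTower R κ κ' := IsScalarTower.of_algebraMap_eq fun r => (hcomp r).symm
  letI : Algebra P F' := ((algebraMap P' F').comp (algebraMap P P')).toAlgebra
  haveI : IsScalarTower P P' F' := IsScalarTower.of_algebraMap_eq fun _ => rfl
  letI : Algebra R F' := ((algebraMap R' F').comp (algebraMap R R')).toAlgebra
  haveI : IsScalarTower R R' F' := IsScalarTower.of_algebraMap_eq fun _ => rfl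
  haveI : IsScalarTower R κ' F' := IsScalarTower.of_algebraMap_eq fun r => by
    rw [IsScalarTower.algebraMap_apply R R' F', IsScalarTower.algebraMap_apply R R' κ',
      ← IsScalarTower.algebraMap_apply R' κ' F']
  haveI : IsScalarTower R P' F' := IsScalarTower.of_algebraMap_eq fun r => by
    rw [IsScalarTower.algebraMap_apply R R' F', IsScalarTower.algebraMap_apply R R' P',
      ← IsScalarTower.algebraMap_apply R' P' F']
  haveI : IsScalarTower R P F' := IsScalarTower.of_algebraMap_eq fun r => by
    rw [IsScalarTower.algebraMap_apply P P' F', ← IsScalarTower.algebraMap_apply R P P',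
      ← IsScalarTower.algebraMap_apply R P' F']
  letI : Algebra κ F' := ((algebraMap κ' F').comp (algebraMap κ κ')).toAlgebra
  haveI : IsScalarTower κ κ' F' := IsScalarTower.of_algebraMap_eq fun _ => rfl
  haveI : IsScalarTower R κ F' := IsScalarTower.of_algebraMap_eq fun r => by
    rw [IsScalarTower.algebraMap_apply κ κ' F', ← IsScalarTower.algebraMap_apply R κ κ',
      ← IsScalarTower.algebraMap_apply R κ' F']
  let e := Algebra.IsPushout.equiv R κ P F
  let L := Algebra.TensorProduct.lift (IsScalarTower.toAlgHom R κ F') (IsScalarTower.toAlgHom R P F')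
    fun _ _ => Commute.all _ _
  let Φ : F →+* F' := L.toRingHom.comp e.symm.toRingEquiv.toRingHom
  have hκ : ∀ c, Φ (algebraMap κ F c) = algebraMap κ F' c := fun c => by
    show L (e.symm (algebraMap κ F c)) = _
    rw [Algebra.IsPushout.equiv_symm_algebraMap_left, Algebra.TensorProduct.lift_tmul]
    simp
  have hP : ∀ x, Φ (algebraMap P F x) = algebraMap P F' x := fun x => by
    show L (e.symm (algebraMap P F x)) = _
    rw [Algebra.IsPushout.equiv_symm_algebraMap_right, Algebra.TensorProduct.lift_tmul]
    simp
  letI : Algebra F F' := Φ.toAlgebra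
  haveI : IsScalarTower κ F F' := IsScalarTower.of_algebraMap_eq fun c => (hκ c).symm
  haveI : IsScalarTower P F F' := IsScalarTower.of_algebraMap_eq fun x => (hP x).symm
  haveI : IsScalarTower R F F' := IsScalarTower.of_algebraMap_eq fun r => by
    rw [IsScalarTower.algebraMap_apply R P F, ← IsScalarTower.algebraMap_apply P F F',
      ← IsScalarTower.algebraMap_apply R P F']
  haveI h1 : Algebra.IsPushout R κ' P F' :=
    (Algebra.IsPushout.comp_iff (R := R) (S := R') (R' := P) (S' := P') (T := κ') (T' := F')).2 inferInstance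
  haveI h2 : Algebra.IsPushout κ κ' F F' :=
    (Algebra.IsPushout.comp_iff (R := R) (S := κ) (R' := P) (S' := F) (T := κ') (T' := F')).1 h1
  refine ⟨Φ, ?_, fun x => (hP x).trans (IsScalarTower.algebraMap_apply P P' F' x)⟩
  show Module.Flat F F'
  exact Module.Flat.isBaseChange κ F κ' F' (Algebra.IsPushout.symm h2).out

/-- Base change of fibres is flat and compatible. -/
theorem exists_fib_map {R R' P P' : Type u} [CommRing R] [CommRing R'] [CommRing P] [CommRing P'] [Algebra R R']
    [Algebra R P] [Algebra R P'] [Algebra R' P'] [Algebra P P'] [IsScalarTower R R' P'] [IsScalarTower R P P']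
    [Algebra.IsPushout R R' P P'] (p : Ideal R) [p.IsPrime] (p' : Ideal R') [p'.IsPrime]
    (hp : p = p'.comap (algebraMap R R')) :
    ∃ Φ : p.Fiber P →+* p'.Fiber P', Φ.Flat ∧
      ∀ x : P, Φ ((Algebra.TensorProduct.includeRight : P →ₐ[R] p.Fiber P) x) =
        (Algebra.TensorProduct.includeRight : P' →ₐ[R'] p'.Fiber P') (algebraMap P P' x) := by
  let j := Localization.localRingHom p p' (algebraMap R R') hp
  haveI : IsLocalHom j := Localization.isLocalHom_localRingHom p p' _ hp
  letI : Algebra p.ResidueField p'.ResidueField := (IsLocalRing.ResidueField.map j).toAlgebra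
  have hcomp : ∀ r : R, algebraMap p.ResidueField p'.ResidueField (algebraMap R p.ResidueField r) =
      algebraMap R' p'.ResidueField (algebraMap R R' r) := fun r => by
    rw [IsScalarTower.algebraMap_apply R (Localization.AtPrime p) p.ResidueField,
      IsScalarTower.algebraMap_apply R' (Localization.AtPrime p') p'.ResidueField]
    show IsLocalRing.ResidueField.map j (residue _ _) = residue _ _
    rw [IsLocalRing.ResidueField.map_residue, Localization.localRingHom_to_map]
  exact exists_flat_map (F := p.Fiber P) (F' := p'.Fiber P') hcomp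

theorem krGen_iff_of_flat {F F' : Type u} [CommRing F] [CommRing F'] (Φ : F →+* F') (hflat : Φ.Flat)
    (G : Ideal F) [G.IsPrime] (G' : Ideal F') [G'.IsPrime] (hc : G = G'.comap Φ) (J : Ideal F) (hJ : J ≤ G) :
    KRGen ((J.map Φ).map (algebraMap F' (Localization.AtPrime G'))) ↔ KRGen (J.map (algebraMap F (Localization.AtPrime G))) := by
  let T := Localization.AtPrime G
  let T' := Localization.AtPrime G'
  let ψ : T →+* T' := Localization.localRingHom G G' Φ hc
  letI : Algebra T T' := ψ.toAlgebra
  letI : Algebra F F' := Φ.toAlgebra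
  haveI : Module.Flat F F' := hflat
  haveI : IsScalarTower F F' T' := inferInstance
  haveI : IsScalarTower F T T' := IsScalarTower.of_algebraMap_eq fun a => by
    rw [IsScalarTower.algebraMap_apply F F' T']
    exact (Localization.localRingHom_to_map G G' Φ hc a).symm
  haveI : Module.Flat F T' := Module.Flat.trans F F' T'
  haveI : Module.Flat T T' := (Module.flat_iff_of_isLocalization T G.primeCompl T').2 inferInstance
  haveI : IsLocalHom (algebraMap T T') := Localization.isLocalHom_localRingHom G G' Φ hc
  haveI : Module.FaithfullyFlat T T' := by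
    exact @Module.FaithfullyFlat.of_flat_of_isLocalHom T T' _ _ _ _ _ _ _
  have hmap : (J.map (algebraMap F T)).map (algebraMap T T') = (J.map Φ).map (algebraMap F' T') := by
    rw [Ideal.map_map, Ideal.map_map]
    exact congrArg (fun φ => Ideal.map φ J) (RingHom.ext fun x => Localization.localRingHom_to_map G G' Φ hc x)
  constructor
  · intro h
    rw [← hmap] at h
    have hlk := LocKR.of_faithfullyFlat (B := T') h.locKR
    have hle : J.map (algebraMap F T) ≤ maximalIdeal T := by
      rw [← IsLocalization.AtPrime.map_eq_maximalIdeal G T]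
      exact Ideal.map_mono hJ
    obtain ⟨u, hu, hkr⟩ := hlk (maximalIdeal T) inferInstance hle
    have h2 := KRGen.map_of_isUnit (R := T) (g := u) (IsLocalRing.notMem_maximalIdeal.1 hu) hkr
    rwa [show algebraMap T T = RingHom.id T from rfl, Ideal.map_id] at h2
  · intro h
    rw [← hmap]
    exact h.map_flat

theorem krGen_fibre_baseChange {R R' P P' : Type u} [CommRing R] [CommRing R'] [CommRing P] [CommRing P'] [Algebra R R']
    [Algebra R P] [Algebra R P'] [Algebra R' P'] [Algebra P P'] [IsScalarTower R R' P'] [IsScalarTower R P P']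
    [Algebra.IsPushout R R' P P'] [Algebra.FiniteType R P] [Algebra.FiniteType R' P']
    (Q : Ideal P) [Q.IsPrime] (Q' : Ideal P') [Q'.IsPrime] (hQ : Q'.comap (algebraMap P P') = Q)
    (QF : Ideal ((Q.comap (algebraMap R P)).Fiber P)) [QF.IsPrime]
    (hQF : QF.comap (Algebra.TensorProduct.includeRight : P →ₐ[R] (Q.comap (algebraMap R P)).Fiber P).toRingHom = Q)
    (QF' : Ideal ((Q'.comap (algebraMap R' P')).Fiber P')) [QF'.IsPrime]
    (hQF' : QF'.comap (Algebra.TensorProduct.includeRight : P' →ₐ[R'] (Q'.comap (algebraMap R' P')).Fiber P').toRingHom = Q')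
    (I : Ideal P) (hI : I ≤ Q) :
    KRGen ((I.map (algebraMap P P')).map (RelRegLib.toFib Q' QF')) ↔ KRGen (I.map (RelRegLib.toFib Q QF)) := by
  let p := Q.comap (algebraMap R P)
  let p' := Q'.comap (algebraMap R' P')
  have hp : p = p'.comap (algebraMap R R') := by
    show Q.comap (algebraMap R P) = (Q'.comap (algebraMap R' P')).comap (algebraMap R R')
    rw [Ideal.comap_comap, ← IsScalarTower.algebraMap_eq, ← hQ, Ideal.comap_comap, ← IsScalarTower.algebraMap_eq]
  obtain ⟨Φ, hflat, hΦ⟩ := exists_fib_map (P := P) (P' := P') p p' hp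
  have hc : QF = QF'.comap Φ := by
    refine congrArg PrimeSpectrum.asIdeal (show (⟨QF, ‹_›⟩ : PrimeSpectrum _) = ⟨QF'.comap Φ, inferInstance⟩ from ?_)
    refine (PrimeSpectrum.preimageHomeomorphFiber R P ⟨p, inferInstance⟩).symm.injective ?_
    refine Subtype.ext (PrimeSpectrum.ext ?_)
    show QF.comap (Algebra.TensorProduct.includeRight : P →ₐ[R] _).toRingHom =
      (QF'.comap Φ).comap (Algebra.TensorProduct.includeRight : P →ₐ[R] _).toRingHom
    rw [hQF, Ideal.comap_comap, show Φ.comp (Algebra.TensorProduct.includeRight : P →ₐ[R] p.Fiber P).toRingHom =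
      (Algebra.TensorProduct.includeRight : P' →ₐ[R'] p'.Fiber P').toRingHom.comp (algebraMap P P') from RingHom.ext hΦ,
      ← Ideal.comap_comap, hQF', hQ]
  have e : (I.map (Algebra.TensorProduct.includeRight : P →ₐ[R] p.Fiber P).toRingHom).map Φ =
      (I.map (algebraMap P P')).map (Algebra.TensorProduct.includeRight : P' →ₐ[R'] p'.Fiber P').toRingHom := by
    rw [Ideal.map_map, Ideal.map_map]
    exact congrArg (fun φ => Ideal.map φ I) (RingHom.ext hΦ)
  have h := krGen_iff_of_flat Φ hflat QF QF' hc
    (I.map (Algebra.TensorProduct.includeRight : P →ₐ[R] p.Fiber P).toRingHom)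
    (Ideal.map_le_iff_le_comap.2 (hI.trans hQF.ge))
  rw [e, Ideal.map_map (f := (Algebra.TensorProduct.includeRight : P →ₐ[R] p.Fiber P).toRingHom),
    Ideal.map_map (f := (Algebra.TensorProduct.includeRight : P' →ₐ[R'] p'.Fiber P').toRingHom)] at h
  exact h

end LCILocusLib
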