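import Groth.Agent.LCILocusLib.BaseChange
import Groth.Agent.KoszAtLib.Ring
import Groth.Agent.KRLib.ImmFlat
import Mathlib

/-!
# The Koszul locus in a chart
-/

set_option autoImplicit false
set_option linter.style.haveILetI false
set_option backward.isDefEq.respectTransparency.types false

noncomputable section

universe u

open KoszDetLib KRLib TensorProduct

namespace LCILocusLib

/-- Being lci near a prime is read on the kernel of a presentation. -/
theorem exists_isLCI_away_iff {C B : Type u} [CommRing C] [CommRing B] [Algebra C B] {n : ℕ}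
    (σ : MvPolynomial (Fin n) C →ₐ[C] B) (hσ : Function.Surjective σ) (q : Ideal B) [q.IsPrime] :
    (∃ b, b ∉ q ∧ LCI.IsLCI C (Localization.Away b)) ↔
      ∃ g, g ∉ q.comap σ.toRingHom ∧
        KRGen ((RingHom.ker σ.toRingHom).map (algebraMap (MvPolynomial (Fin n) C) (Localization.Away g))) := by
  have main : ∀ g : MvPolynomial (Fin n) C, ∃ π : Localization.Away g →ₐ[C] Localization.Away (σ g),
      Function.Surjective π ∧ RingHom.ker π.toRingHom =
        (RingHom.ker σ.toRingHom).map (algebraMap (MvPolynomial (Fin n) C) (Localization.Away g)) := fun g => by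
    let L := Localization.Away g
    let M := Localization.Away (σ g)
    haveI : IsLocalization.Away (σ.toRingHom g) M := inferInstanceAs (IsLocalization.Away (σ g) M)
    refine ⟨{ IsLocalization.Away.map L M σ.toRingHom g with commutes' := fun c => ?_ },
      awayMap_surjective σ.toRingHom g L M hσ, ker_awayMap σ.toRingHom g L M⟩
    show IsLocalization.Away.map L M σ.toRingHom g (algebraMap C L c) = _
    rw [IsScalarTower.algebraMap_apply C (MvPolynomial (Fin n) C) L, IsScalarTower.algebraMap_apply C B M]
    exact (IsLocalization.map_eq _ _).trans (congrArg _ (σ.commutes c))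
  have hsm : ∀ g : MvPolynomial (Fin n) C, Algebra.Smooth C (Localization.Away g) := fun g =>
    haveI : Algebra.Smooth C (MvPolynomial (Fin n) C) := ⟨inferInstance, inferInstance⟩
    haveI := Algebra.Smooth.of_isLocalization_Away g (A := Localization.Away g)
    Algebra.Smooth.comp C (MvPolynomial (Fin n) C) (Localization.Away g)
  constructor
  · rintro ⟨b, hb, hl⟩
    obtain ⟨g, rfl⟩ := hσ b
    obtain ⟨π, hπ, hker⟩ := main g
    haveI := hsm g
    have hloc := KoszAtLib.locKR_ker_of_smooth π hπ hl
    rw [hker] at hloc
    let Q := q.comap σ.toRingHom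
    have hg : g ∉ Q := hb
    haveI hQ' : (Q.map (algebraMap (MvPolynomial (Fin n) C) (Localization.Away g))).IsPrime :=
      IsLocalization.isPrime_of_isPrime_disjoint (Submonoid.powers g) _ Q inferInstance
        ((Ideal.disjoint_powers_iff_notMem _ (Ideal.IsPrime.isRadical (inferInstance : Q.IsPrime))).2 hg)
    obtain ⟨g', hg', hk⟩ := hloc _ hQ' (Ideal.map_mono fun a ha => by
      show σ a ∈ q
      rw [show σ a = 0 from ha]
      exact zero_mem _)
    exact exists_of_away Q g hg g' hg' hk
  · rintro ⟨g, hg, hk⟩
    obtain ⟨π, hπ, hker⟩ := main g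
    haveI := hsm g
    refine ⟨σ g, hg, ?_⟩
    letI : Algebra (Localization.Away g) (Localization.Away (σ g)) := π.toRingHom.toAlgebra
    haveI : IsScalarTower C (Localization.Away g) (Localization.Away (σ g)) :=
      IsScalarTower.of_algebraMap_eq fun c => (π.commutes c).symm
    exact isLCI_trans (KoszAtLib.isLCI_of_smooth C (Localization.Away g))
      (KoszAtLib.isLCI_of_surjective (Q := Localization.Away g) (B := Localization.Away (σ g)) hπ
        (show LocKR (RingHom.ker π.toRingHom) from hker ▸ hk.locKR))

/-- For flat finitely presented algebras over a base, being lci near a prime is read on the fibre. -/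
theorem exists_isLCI_away_iff_fibre {R C B : Type u} [CommRing R] [CommRing C] [CommRing B] [Algebra R C]
    [Algebra R B] [Algebra C B] [IsScalarTower R C B] [Module.Flat R C] [Algebra.FinitePresentation R C]
    [Module.Flat R B] [Algebra.FinitePresentation R B] {n : ℕ}
    (σ : MvPolynomial (Fin n) C →ₐ[C] B) (hσ : Function.Surjective σ) (q : Ideal B) [q.IsPrime]
    (QF : Ideal (((q.comap σ.toRingHom).comap (algebraMap R (MvPolynomial (Fin n) C))).Fiber (MvPolynomial (Fin n) C)))
    [QF.IsPrime]
    (hQF : QF.comap (Algebra.TensorProduct.includeRight : MvPolynomial (Fin n) C →ₐ[R]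
      ((q.comap σ.toRingHom).comap (algebraMap R (MvPolynomial (Fin n) C))).Fiber (MvPolynomial (Fin n) C)).toRingHom =
        q.comap σ.toRingHom) :
    (∃ b, b ∉ q ∧ LCI.IsLCI C (Localization.Away b)) ↔
      KRGen ((RingHom.ker σ.toRingHom).map (RelRegLib.toFib (q.comap σ.toRingHom) QF)) := by
  rw [exists_isLCI_away_iff σ hσ q]
  haveI : Algebra.FinitePresentation R (MvPolynomial (Fin n) C) :=
    Algebra.FinitePresentation.trans R C (MvPolynomial (Fin n) C)
  haveI : Module.Flat R (MvPolynomial (Fin n) C) := Module.Flat.trans R C (MvPolynomial (Fin n) C)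
  let σR : MvPolynomial (Fin n) C →ₐ[R] B := σ.restrictScalars R
  haveI : Module.Flat R (MvPolynomial (Fin n) C ⧸ RingHom.ker σ.toRingHom) :=
    Module.Flat.of_linearEquiv (Ideal.quotientKerAlgEquivOfSurjective (f := σR) hσ).toLinearEquiv
  refine ⟨fun h => krGen_fibre _ QF hQF _ h, fun h => ?_⟩
  refine krGen_near_of_fibre _ QF hQF _ (Algebra.FinitePresentation.ker_fG_of_surjective σR hσ) ?_ h
  intro a ha
  show σ a ∈ q
  rw [show σ a = 0 from ha]
  exact zero_mem _

theorem exists_fibre_prime {R P : Type u} [CommRing R] [CommRing P] [Algebra R P] (Q : Ideal P) [Q.IsPrime] :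
    ∃ (QF : Ideal ((Q.comap (algebraMap R P)).Fiber P)) (_ : QF.IsPrime),
      QF.comap (Algebra.TensorProduct.includeRight : P →ₐ[R] (Q.comap (algebraMap R P)).Fiber P).toRingHom = Q := by
  let p : PrimeSpectrum R := ⟨Q.comap (algebraMap R P), inferInstance⟩
  let Q₀ := PrimeSpectrum.preimageHomeomorphFiber R P p ⟨⟨Q, inferInstance⟩, rfl⟩
  exact ⟨Q₀.asIdeal, Q₀.isPrime, congrArg (fun z => (Subtype.val z).asIdeal)
    ((PrimeSpectrum.preimageHomeomorphFiber R P p).symm_apply_apply ⟨⟨Q, inferInstance⟩, rfl⟩)⟩

attribute [local instance] MvPolynomial.algebraMvPolynomial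

/-- Being lci near a prime, for flat finitely presented algebras, commutes with any base change. -/
theorem exists_isLCI_away_baseChange {R R' C C' B B' : Type u} [CommRing R] [CommRing R'] [CommRing C] [CommRing C']
    [CommRing B] [CommRing B'] [Algebra R R'] [Algebra R C] [Algebra R B] [Algebra C B] [IsScalarTower R C B]
    [Algebra R' C'] [Algebra R' B'] [Algebra C' B'] [IsScalarTower R' C' B']
    [Algebra R C'] [Algebra C C'] [IsScalarTower R R' C'] [IsScalarTower R C C'] [Algebra.IsPushout R R' C C']
    [Algebra R B'] [Algebra B B'] [IsScalarTower R R' B'] [IsScalarTower R B B'] [Algebra.IsPushout R R' B B']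
    [Module.Flat R C] [Algebra.FinitePresentation R C] [Module.Flat R B] [Algebra.FinitePresentation R B]
    [Module.Flat R' C'] [Algebra.FinitePresentation R' C'] [Module.Flat R' B'] [Algebra.FinitePresentation R' B']
    (hcomm : ∀ c : C, algebraMap B B' (algebraMap C B c) = algebraMap C' B' (algebraMap C C' c))
    (q' : Ideal B') [q'.IsPrime] :
    (∃ b, b ∉ q' ∧ LCI.IsLCI C' (Localization.Away b)) ↔
      ∃ b, b ∉ q'.comap (algebraMap B B') ∧ LCI.IsLCI C (Localization.Away b) := by
  haveI : Algebra.FiniteType C B := Algebra.FiniteType.of_restrictScalars_finiteType R C B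
  obtain ⟨n, σ, hσ⟩ := Algebra.FiniteType.iff_quotient_mvPolynomial''.1 ‹Algebra.FiniteType C B›
  let P := MvPolynomial (Fin n) C
  let P' := MvPolynomial (Fin n) C'
  let σ' : P' →ₐ[C'] B' := MvPolynomial.aeval fun i => algebraMap B B' (σ (MvPolynomial.X i))
  have hPP' : ∀ x : P, σ' (algebraMap P P' x) = algebraMap B B' (σ x) := fun x => by
    refine RingHom.congr_fun (f := σ'.toRingHom.comp (algebraMap P P'))
      (g := (algebraMap B B').comp σ.toRingHom) (MvPolynomial.ringHom_ext (fun c => ?_) fun i => ?_) x
    · show σ' (MvPolynomial.map (algebraMap C C') (MvPolynomial.C c)) = algebraMap B B' (σ (MvPolynomial.C c))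
      rw [MvPolynomial.map_C, MvPolynomial.aeval_C, show σ (MvPolynomial.C c) = algebraMap C B c from σ.commutes c,
        hcomm]
    · show σ' (MvPolynomial.map (algebraMap C C') (MvPolynomial.X i)) = algebraMap B B' (σ (MvPolynomial.X i))
      rw [MvPolynomial.map_X, MvPolynomial.aeval_X]
  haveI : IsScalarTower R P P' := IsScalarTower.of_algebraMap_eq fun r => by
    show MvPolynomial.C (algebraMap R C' r) = MvPolynomial.map (algebraMap C C') (MvPolynomial.C (algebraMap R C r))
    rw [MvPolynomial.map_C, ← IsScalarTower.algebraMap_apply R C C']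
  haveI : IsScalarTower R R' P' := IsScalarTower.of_algebraMap_eq fun r => by
    show MvPolynomial.C (algebraMap R C' r) = MvPolynomial.C (algebraMap R' C' (algebraMap R R' r))
    rw [← IsScalarTower.algebraMap_apply R R' C']
  haveI : Algebra.IsPushout R C R' C' := .symm inferInstance
  haveI : Algebra.IsPushout R P R' P' :=
    (Algebra.IsPushout.comp_iff (R := R) (S := C) (R' := R') (S' := C') (T := P) (T' := P')).2 inferInstance
  -- the presentation after base change
  letI : Algebra P B := σ.toRingHom.toAlgebra
  haveI : IsScalarTower R P B := IsScalarTower.of_algebraMap_eq fun r => by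
    rw [IsScalarTower.algebraMap_apply R C P, IsScalarTower.algebraMap_apply R C B]
    exact (σ.commutes _).symm
  letI : Algebra P' B' := σ'.toRingHom.toAlgebra
  haveI : IsScalarTower R' P' B' := IsScalarTower.of_algebraMap_eq fun r => by
    rw [IsScalarTower.algebraMap_apply R' C' P', IsScalarTower.algebraMap_apply R' C' B']
    exact (σ'.commutes _).symm
  letI : Algebra P B' := ((algebraMap B B').comp σ.toRingHom).toAlgebra
  haveI : IsScalarTower P B B' := IsScalarTower.of_algebraMap_eq fun _ => rfl
  haveI : IsScalarTower P P' B' := IsScalarTower.of_algebraMap_eq fun x => (hPP' x).symm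
  haveI : IsScalarTower R P B' := IsScalarTower.of_algebraMap_eq fun r => by
    rw [IsScalarTower.algebraMap_apply R B B', IsScalarTower.algebraMap_apply R P B]
    rfl
  haveI : IsScalarTower R P' B' := IsScalarTower.of_algebraMap_eq fun r => by
    rw [IsScalarTower.algebraMap_apply R R' B', IsScalarTower.algebraMap_apply R' P' B',
      ← IsScalarTower.algebraMap_apply R R' P']
  haveI : Algebra.IsPushout R B R' B' := .symm inferInstance
  haveI : Algebra.IsPushout P B P' B' :=
    (Algebra.IsPushout.comp_iff (R := R) (S := P) (R' := R') (S' := P') (T := B) (T' := B')).1 inferInstance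
  obtain ⟨hσ', hker⟩ := isPushout_surjective_ker (A := P) (B := B) (C := P') (P := B') hσ
  let q := q'.comap (algebraMap B B')
  have hQ : (q'.comap σ'.toRingHom).comap (algebraMap P P') = q.comap σ.toRingHom := by
    rw [Ideal.comap_comap, Ideal.comap_comap]
    exact congrArg (fun φ => Ideal.comap φ q') (RingHom.ext hPP')
  haveI : Algebra.IsPushout R R' P P' := .symm inferInstance
  obtain ⟨QF, _, hQF⟩ := exists_fibre_prime (R := R) (q.comap σ.toRingHom)
  obtain ⟨QF', _, hQF'⟩ := exists_fibre_prime (R := R') (q'.comap σ'.toRingHom)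
  haveI : Algebra.FiniteType R P := Algebra.FiniteType.trans (A := P) (inferInstance : Algebra.FiniteType R C) inferInstance
  haveI : Algebra.FiniteType R' P' := Algebra.FiniteType.trans (A := P') (inferInstance : Algebra.FiniteType R' C') inferInstance
  rw [exists_isLCI_away_iff_fibre σ' hσ' q' QF' hQF', exists_isLCI_away_iff_fibre σ hσ q QF hQF,
    show RingHom.ker σ'.toRingHom = (RingHom.ker σ.toRingHom).map (algebraMap P P') from hker]
  refine krGen_fibre_baseChange _ _ hQ QF hQF QF' hQF' _ fun a ha => ?_
  show σ a ∈ q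
  rw [show σ a = 0 from ha]
  exact zero_mem _

end LCILocusLib
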