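import Groth.Agent.RelRegLib.Gen
import Groth.Agent.RegLCILib.Local
import Groth.Agent.GorLib.LCIFibre
import Groth.Agent.FlatLib.SliceCM
import Mathlib

/-!
# Koszul regular ideals with flat quotient are read on the fibre
-/

set_option autoImplicit false
set_option linter.style.haveILetI false

universe u

open KoszDetLib KRLib RingTheory.Sequence IsLocalRing TensorProduct

namespace LCILocusLib

theorem krGen_fibre_aux {A P : Type u} [CommRing A] [CommRing P] [Algebra A P] [Module.Flat A P]
    (K : Type u) [CommRing K] [Algebra A K] (I : Ideal P) [Module.Flat A (P ⧸ I)]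
    (Q' : Ideal (P ⊗[A] K)) [Q'.IsPrime]
    (h : ∃ g, g ∉ Q'.comap (Algebra.TensorProduct.includeLeftRingHom : P →+* P ⊗[A] K) ∧
      KRGen (I.map (algebraMap P (Localization.Away g)))) :
    KRGen (I.map ((algebraMap (P ⊗[A] K) (Localization.AtPrime Q')).comp
      (Algebra.TensorProduct.includeLeftRingHom : P →+* P ⊗[A] K))) := by
  let B := P ⧸ I
  let σ : P →ₐ[A] B := Ideal.Quotient.mkₐ A I
  have hσ : Function.Surjective σ := Ideal.Quotient.mk_surjective
  obtain ⟨g₁, hg₁, hk₁⟩ := h
  replace h : ∃ g, g ∉ Q'.comap (Algebra.TensorProduct.includeLeftRingHom : P →+* P ⊗[A] K) ∧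
      KRGen ((RingHom.ker σ.toRingHom).map (algebraMap P (Localization.Away g))) :=
    ⟨g₁, hg₁, by rw [Ideal.Quotient.mkₐ_toRingHom, Ideal.mk_ker]; exact hk₁⟩
  obtain ⟨g, hg, n, f, hf, hspan⟩ := h
  let L := Localization.Away g
  let T := Localization.AtPrime Q'
  have hgu : IsUnit ((algebraMap (P ⊗[A] K) T) (g ⊗ₜ 1)) := IsLocalization.map_units T (⟨g ⊗ₜ 1, hg⟩ : Q'.primeCompl)
  -- `L/(f)` is a localization of `B`
  haveI : Module.Flat A L := Module.Flat.trans A P L
  haveI : Module.Flat A (L ⧸ Ideal.span (Set.range f)) := by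
    letI : Algebra P B := σ.toRingHom.toAlgebra
    let ρ : L →+* Localization.Away (σ g) := IsLocalization.Away.map L (Localization.Away (σ g)) σ.toRingHom g
    have hρ : Function.Surjective ρ := KRLib.awayMap_surjective σ.toRingHom g L (Localization.Away (σ g)) hσ
    have hker : RingHom.ker ρ = Ideal.span (Set.range f) := (KRLib.ker_awayMap σ.toRingHom g L (Localization.Away (σ g))).trans hspan.symm
    haveI : Module.Flat A (Localization.Away (σ g)) := Module.Flat.trans A B _
    let ρ' : L →ₐ[A] Localization.Away (σ g) := { ρ with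
      commutes' := fun a => by
        show ρ (algebraMap A L a) = _
        rw [IsScalarTower.algebraMap_apply A P L, IsScalarTower.algebraMap_apply A B (Localization.Away (σ g))]
        exact (IsLocalization.map_eq _ _).trans (congrArg _ (σ.commutes a)) }
    exact Module.Flat.of_linearEquiv ((Ideal.quotientEquivAlgOfEq A hker.symm).trans
      (Ideal.quotientKerAlgEquivOfSurjective (f := ρ') hρ)).toLinearEquiv
  have hf' := GorLib.isExactK_baseChange (A := A) K f hf
  -- the flat map `L ⊗ K → T`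
  let toT : P →ₐ[A] T := (IsScalarTower.toAlgHom A (P ⊗[A] K) T).comp Algebra.TensorProduct.includeLeft
  let lft : L →ₐ[A] T := IsLocalization.liftAlgHom (M := Submonoid.powers g) (f := toT) (by
    rintro ⟨_, m, rfl⟩
    show IsUnit (toT (g ^ m))
    rw [map_pow]
    exact hgu.pow m)
  let θ : L ⊗[A] K →ₐ[A] T := Algebra.TensorProduct.lift lft
    ((IsScalarTower.toAlgHom A (P ⊗[A] K) T).comp Algebra.TensorProduct.includeRight) fun _ _ => Commute.all _ _
  let ι : P ⊗[A] K →ₐ[A] L ⊗[A] K := Algebra.TensorProduct.map (IsScalarTower.toAlgHom A P L) (AlgHom.id A K)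
  have hθ : ∀ x, θ (ι x) = algebraMap (P ⊗[A] K) T x := by
    intro x
    induction x using TensorProduct.induction_on with
    | zero => simp
    | tmul p k =>
      show θ (algebraMap P L p ⊗ₜ k) = _
      rw [Algebra.TensorProduct.lift_tmul]
      show lft (algebraMap P L p) * algebraMap (P ⊗[A] K) T (1 ⊗ₜ k) = _
      rw [IsLocalization.liftAlgHom_apply, IsLocalization.lift_eq]
      show algebraMap (P ⊗[A] K) T (p ⊗ₜ 1) * _ = _
      rw [← map_mul, Algebra.TensorProduct.tmul_mul_tmul, mul_one, one_mul]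
    | add x y hx hy => simp only [map_add, hx, hy]
  letI : Algebra (L ⊗[A] K) T := θ.toRingHom.toAlgebra
  haveI : IsLocalization (Q'.primeCompl.map ι.toRingHom.toMonoidHom) T := by
    refine ⟨?_, fun z => ?_, @fun x y hxy => ?_⟩
    · rintro ⟨_, c, hc, rfl⟩
      show IsUnit (θ (ι c))
      rw [hθ]
      exact IsLocalization.map_units T (⟨c, hc⟩ : Q'.primeCompl)
    · obtain ⟨⟨a, s⟩, hs⟩ := IsLocalization.surj Q'.primeCompl z
      refine ⟨⟨ι a, ⟨ι s, s, s.2, rfl⟩⟩, ?_⟩
      show z * θ (ι s) = θ (ι a)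
      rw [hθ, hθ]; exact hs
    · obtain ⟨m, a, ha⟩ := GorLib.exists_mul_mem_range (A := A) (K := K) g (x - y)
      have hg' : algebraMap P L (g ^ m) ⊗ₜ[A] (1 : K) = ι ((g ^ m) ⊗ₜ 1) := by
        show _ = algebraMap P L (g ^ m) ⊗ₜ[A] (1 : K)
        rfl
      have h0 : algebraMap (P ⊗[A] K) T a = 0 := by
        rw [← hθ]
        show θ (ι a) = 0
        rw [← ha, map_mul, map_sub]
        have : θ x = θ y := hxy
        rw [this, sub_self, zero_mul]
      obtain ⟨c, hc⟩ := (IsLocalization.map_eq_zero_iff Q'.primeCompl T a).1 h0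
      have hmem : (c : P ⊗[A] K) * ((g ^ m) ⊗ₜ 1) ∈ Q'.primeCompl := by
        refine Submonoid.mul_mem _ c.2 ?_
        have := pow_mem (S := Q'.primeCompl) (x := (g ⊗ₜ 1 : P ⊗[A] K)) hg m
        rwa [Algebra.TensorProduct.tmul_pow, one_pow] at this
      refine ⟨⟨_, _, hmem, rfl⟩, ?_⟩
      show ι ((c : P ⊗[A] K) * ((g ^ m) ⊗ₜ 1)) * x = ι ((c : P ⊗[A] K) * ((g ^ m) ⊗ₜ 1)) * y
      have h1 : ι (c : P ⊗[A] K) * ι a = 0 := by rw [← map_mul, hc, map_zero]
      rw [← sub_eq_zero, ← mul_sub, map_mul, mul_assoc, mul_comm (ι ((g ^ m) ⊗ₜ 1)), ← hg', ha]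
      exact h1
  haveI : Module.Flat (L ⊗[A] K) T := IsLocalization.flat T (Q'.primeCompl.map ι.toRingHom.toMonoidHom)
  refine ⟨n, fun i => θ (f i ⊗ₜ 1), KRLib.isExactK_of_flat hf', ?_⟩
  -- the ideals agree
  let inc : L →+* T := θ.toRingHom.comp Algebra.TensorProduct.includeLeftRingHom
  rw [show Ideal.span (Set.range fun i => θ (f i ⊗ₜ 1)) = (Ideal.span (Set.range f)).map inc by
    rw [Ideal.map_span, ← Set.range_comp]; rfl, hspan, Ideal.map_map]
  rw [Ideal.Quotient.mkₐ_toRingHom, Ideal.mk_ker]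
  refine congrArg (fun φ => Ideal.map φ I) (RingHom.ext fun p => ?_)
  show θ (ι (p ⊗ₜ 1)) = algebraMap (P ⊗[A] K) T (p ⊗ₜ 1)
  exact hθ _

variable {A B : Type u} [CommRing A] [CommRing B] [Algebra A B] (Q : Ideal B) [Q.IsPrime]
  (QF : Ideal ((Q.comap (algebraMap A B)).Fiber B)) [QF.IsPrime]
  (hQF : QF.comap (Algebra.TensorProduct.includeRight : B →ₐ[A] (Q.comap (algebraMap A B)).Fiber B).toRingHom = Q)

include hQF in
/-- A Koszul regular ideal with flat quotient is Koszul regular on the fibre. -/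
theorem krGen_fibre [Module.Flat A B] (I : Ideal B) [Module.Flat A (B ⧸ I)]
    (h : ∃ g, g ∉ Q ∧ KRGen (I.map (algebraMap B (Localization.Away g)))) :
    KRGen (I.map (RelRegLib.toFib Q QF)) := by
  let κ := (Q.comap (algebraMap A B)).ResidueField
  let e : B ⊗[A] κ ≃ₐ[A] (Q.comap (algebraMap A B)).Fiber B := Algebra.TensorProduct.comm A B κ
  let Q' : Ideal (B ⊗[A] κ) := QF.comap e.toAlgHom.toRingHom
  haveI : Q'.IsPrime := Ideal.comap_isPrime e.toAlgHom.toRingHom QF
  have h2 := krGen_fibre_aux κ I Q' (by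
    obtain ⟨g, hg, hk⟩ := h
    refine ⟨g, fun hm => hg ?_, hk⟩
    rw [← hQF]
    exact hm)
  let ψ := Localization.localRingHom Q' QF e.toAlgHom.toRingHom rfl
  have hψ : Function.Bijective ψ := by
    haveI : IsLocalization.AtPrime (Localization.AtPrime QF) QF := inferInstance
    exact (IsLocalization.ringEquivOfRingEquiv (M := Q'.primeCompl) (T := QF.primeCompl)
      (Localization.AtPrime Q') (Localization.AtPrime QF) e.toRingEquiv
      (by
        ext x
        constructor
        · rintro ⟨y, hy, rfl⟩; exact hy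
        · intro hx; exact ⟨e.symm x, by
            show e (e.symm x) ∉ QF
            rw [e.apply_symm_apply]; exact hx, e.apply_symm_apply x⟩)).bijective
  have h3 := h2.map_bijective (R := Localization.AtPrime QF) ψ hψ
  rw [Ideal.map_map] at h3
  have e2 : ψ.comp ((algebraMap (B ⊗[A] κ) (Localization.AtPrime Q')).comp
      (Algebra.TensorProduct.includeLeftRingHom : B →+* B ⊗[A] κ)) = RelRegLib.toFib Q QF :=
    RingHom.ext fun x => Localization.localRingHom_to_map Q' QF e.toAlgHom.toRingHom rfl _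
  rwa [e2] at h3

variable [Algebra.FinitePresentation A B]

include hQF in
/-- A sequence regular on the fibre is regular near the point. -/
theorem exists_isWeaklyRegular_near (hflat : (⟨Q, inferInstance⟩ : PrimeSpectrum B) ∈ FlatLib.flatLocus A B B)
    (l : List B) (hl : ∀ b ∈ l, b ∈ Q) (hreg : IsWeaklyRegular (Localization.AtPrime QF) (l.map (RelRegLib.toFib Q QF))) :
    ∃ g, g ∉ Q ∧ IsWeaklyRegular (Localization.Away g) (l.map (algebraMap B (Localization.Away g))) := by
  let τ := RelRegLib.toFib Q QF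
  let p := Q.comap (algebraMap A B)
  have key : ∀ (J : Ideal B) (m : B), (∃ t ∉ Q, t * m ∈ J ⊔ p.map (algebraMap A B)) ↔ τ m ∈ J.map τ := by
    intro J m
    constructor
    · rintro ⟨t, ht, h⟩
      have hp : (p.map (algebraMap A B)).map τ = ⊥ := by
        rw [Ideal.map_map, Ideal.map_eq_bot_iff_le_ker]
        exact fun r hr => RelRegLib.toFib_algebraMap Q QF hr
      have h1 := Ideal.mem_map_of_mem τ h
      rw [Ideal.map_sup, hp, sup_bot_eq, map_mul] at h1
      exact (Ideal.unit_mul_mem_iff_mem _ (RelRegLib.toFib_isUnit Q QF hQF ht)).1 h1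
    · intro h
      obtain ⟨s, hs, j, hj, hsj⟩ := TransLib.exists_of_mem_map (P := B) (T := Localization.AtPrime QF) (I := J)
        (z := τ m) τ Q.primeCompl (RelRegLib.toFib_dense Q QF hQF) h
      obtain ⟨s', hs', hd⟩ := RelRegLib.exists_mul_mem_of_toFib_eq_zero Q QF hQF (z := m * s - j)
        (by rw [map_sub, map_mul, hsj, sub_self])
      refine ⟨s' * s, Q.primeCompl.mul_mem hs' hs, ?_⟩
      rw [show s' * s * m = s' * j + s' * (m * s - j) by ring]
      exact Submodule.add_mem_sup (J.mul_mem_left _ hj) hd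
  obtain ⟨U, hU, hQU, hUreg, -⟩ := FlatLib.exists_open_slices (R := A) ⟨Q, inferInstance⟩ l hl hflat (fun i hi m h => by
    rw [key] at h ⊢
    rw [map_mul, Ideal.map_ofList] at h
    rw [Ideal.map_ofList]
    have hw := (isWeaklyRegular_iff _ _).1 hreg i (by simpa using hi)
    rw [isSMulRegular_quotient_iff_mem_of_smul_mem, smul_eq_mul, Ideal.mul_top, ← List.map_take, List.getElem_map] at hw
    exact hw _ h) l.length le_rfl
  obtain ⟨_, ⟨g, rfl⟩, hgQ, hgU⟩ := PrimeSpectrum.isTopologicalBasis_basic_opens.exists_subset_of_mem_open hQU hU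
  exact ⟨g, hgQ, FlatLib.isWeaklyRegular_away l g _ fun i hi q' hq' => hUreg i hi hi q' (hgU hq')⟩

include hQF in
/-- A finitely generated ideal with flat quotient which is Koszul regular on the fibre is so near the point. -/
theorem krGen_near_of_fibre [Module.Flat A B] (I : Ideal B) (hI : I.FG) (hIQ : I ≤ Q) [Module.Flat A (B ⧸ I)]
    (h : KRGen (I.map (RelRegLib.toFib Q QF))) :
    ∃ g, g ∉ Q ∧ KRGen (I.map (algebraMap B (Localization.Away g))) := by
  haveI : IsNoetherianRing ((Q.comap (algebraMap A B)).Fiber B) :=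
    Algebra.FiniteType.isNoetherianRing (Q.comap (algebraMap A B)).ResidueField _
  haveI : IsNoetherianRing (Localization.AtPrime QF) := IsLocalization.isNoetherianRing QF.primeCompl _ inferInstance
  let τ := RelRegLib.toFib Q QF
  obtain ⟨rs, hspan, hreg⟩ := RegLCILib.exists_regular_of_krGen ((Ideal.map_le_iff_le_comap (f := τ) (K := maximalIdeal (Localization.AtPrime QF))).2 fun x hx =>
    (RelRegLib.toFib_mem Q QF hQF).2 (hIQ hx)) h
  have hmem : ∀ j : Fin rs.length, ∃ f ∈ I, Associated (τ f) (rs.get j) := fun j => by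
    have h1 : rs.get j ∈ I.map τ := hspan.le (Ideal.subset_span (List.get_mem rs j))
    obtain ⟨s, hs, f, hf, hsf⟩ := TransLib.exists_of_mem_map (P := B) (T := Localization.AtPrime QF) (I := I)
      (z := rs.get j) τ Q.primeCompl (RelRegLib.toFib_dense Q QF hQF) h1
    exact ⟨f, hf, ⟨(RelRegLib.toFib_isUnit Q QF hQF hs).unit⁻¹, by rw [← hsf, mul_assoc, IsUnit.mul_val_inv, mul_one]⟩⟩
  choose f hfI hass using hmem
  have hle : (Ideal.span (Set.range f)).map τ ≤ I.map τ := Ideal.map_mono (Ideal.span_le.2 (Set.range_subset_iff.2 hfI))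
  have hgen : I.map τ ≤ (Ideal.span (Set.range f)).map τ := by
    rw [← hspan]
    refine (CommAlgDim.ofList_le_iff (R := Localization.AtPrime QF)).2 fun x hx => ?_
    obtain ⟨j, rfl⟩ := List.mem_iff_get.1 hx
    exact Ideal.mem_of_dvd _ (hass j).dvd (Ideal.mem_map_of_mem _ (Ideal.subset_span ⟨j, rfl⟩))
  have hex : IsExactK (fun i => τ (f i)) := by
    refine isExactK_of_length_eq (isExactK_of_isWeaklyRegular rs hreg.toIsWeaklyRegular) ?_
    rw [show Ideal.span (Set.range rs.get) = Ideal.ofList rs from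
      congrArg Ideal.span (Set.range_list_get rs), hspan,
      show Set.range (fun i => τ (f i)) = τ '' Set.range f from Set.range_comp τ f, ← Ideal.map_span]
    exact le_antisymm hgen hle
  have hw := GorLib.isWeaklyRegular_reverse_of_isExactK _ hex
    (fun i => (RelRegLib.toFib_mem Q QF hQF).2 (hIQ (hfI i)))
  rw [show List.ofFn (fun i => τ (f i)) = (List.ofFn f).map τ from (List.map_ofFn).symm, ← List.map_reverse] at hw
  have hflat : (⟨Q, inferInstance⟩ : PrimeSpectrum B) ∈ FlatLib.flatLocus A B B :=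
    Module.Flat.trans A B (LocalizedModule Q.primeCompl B)
  obtain ⟨g, hg, hgw⟩ := exists_isWeaklyRegular_near Q QF hQF hflat (List.ofFn f).reverse (fun b hb => by
    rw [List.mem_reverse, List.mem_ofFn] at hb
    obtain ⟨i, rfl⟩ := hb
    exact hIQ (hfI i)) hw
  haveI : (Q.map (Ideal.Quotient.mk I)).IsPrime :=
    Ideal.map_isPrime_of_surjective Ideal.Quotient.mk_surjective (by rwa [Ideal.mk_ker])
  obtain ⟨s, hs, hsI⟩ := RelRegLib.exists_mul_mem_span Q QF hQF I hI f hfI hgen (Q.map (Ideal.Quotient.mk I))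
    (by rw [Ideal.comap_map_of_surjective _ Ideal.Quotient.mk_surjective, ← RingHom.ker_eq_comap_bot, Ideal.mk_ker,
      sup_eq_left.2 hIQ]) (Module.Flat.trans A (B ⧸ I) _)
  let L := Localization.Away (g * s)
  have hu : IsUnit (algebraMap B L g) ∧ IsUnit (algebraMap B L s) :=
    IsUnit.mul_iff.1 (map_mul (algebraMap B L) g s ▸ IsLocalization.Away.algebraMap_isUnit (g * s))
  refine ⟨g * s, Q.primeCompl.mul_mem hg hs, ?_⟩
  have h2 : KRGen ((Ideal.span (Set.range f)).map (algebraMap B L)) := by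
    refine KRGen.map_of_isUnit (R := L) (g := g) hu.1 ?_
    refine RegLCILib.krGen_of_regular hgw ?_
    rw [← Ideal.map_ofList]
    congr 1
    unfold Ideal.ofList
    congr 1
    ext x
    simp [List.mem_ofFn]
  convert h2 using 1
  refine le_antisymm (Ideal.map_le_iff_le_comap.2 fun x hx => ?_) (Ideal.map_mono (Ideal.span_le.2 (Set.range_subset_iff.2 hfI)))
  rw [Ideal.mem_comap, ← Ideal.unit_mul_mem_iff_mem _ hu.2, ← map_mul]
  exact Ideal.mem_map_of_mem _ (hsI x hx)

end LCILocusLib
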